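import Groth.Agent.Lib.ClosedHom20.Basic
import Groth.Agent.Lib.RelReg.FibreLift
import Groth.Agent.Lib.OX.PullbackStalk

/-! # Base change of direct images of arbitrary modules along closed immersions -/

set_option autoImplicit false
set_option maxHeartbeats 800000
set_option linter.style.haveILetI false
set_option backward.isDefEq.respectTransparency false

universe u

open CategoryTheory CategoryTheory.Limits AlgebraicGeometry TensorProduct

noncomputable section

namespace GrothLib.ClosedFlatBC29

open GrothLib.OX

variable {W W' Z Z' : Scheme.{u}} {i : W ⟶ Z} {i' : W' ⟶ Z'} {q : Z' ⟶ Z} {r : W' ⟶ W}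

/-- A module supported on a closed subscheme and killed by its ideal on stalks comes from it. -/
theorem isIso_unit_of_killed (i : W ⟶ Z) [IsClosedImmersion i] (M : Z.Modules)
    (h0 : ∀ x, x ∉ Set.range i → IsZero ((stalk x).obj M))
    (hk : ∀ (y : W) (s : Z.presheaf.stalk (i y)), (i.stalkMap y).hom s = 0 →
      ∀ m : (stalk (i y)).obj M, s • m = 0) :
    IsIso ((Scheme.Modules.pullbackPushforwardAdjunction i).unit.app M) := by
  refine (OX.isIso_iff _).2 fun x => (ConcreteCategory.isIso_iff_bijective _).2 ?_
  by_cases hx : x ∈ Set.range i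
  · obtain ⟨y, rfl⟩ := hx
    have hb := QCoh.extendScalars_unit_bijective (i.stalkMap y).hom (i.stalkMap_surjective y)
      ((stalk (i y)).obj M) (fun s hs m => hk y s hs m)
    rw [← QCoh.unit_stalk_comp i y] at hb
    have h2 : Function.Bijective ((QCoh.pushStalkHom i y _) ≫
          (ModuleCat.restrictScalars (i.stalkMap y).hom).map
            ((QCoh.stalkPullbackIso i y).hom.app M)).hom :=
      ((ConcreteCategory.isIso_iff_bijective ((ModuleCat.restrictScalars (i.stalkMap y).hom).map
        ((QCoh.stalkPullbackIso i y).hom.app M))).1 inferInstance).comp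
        (QCoh.pushStalkHom_bijective i y _ i.isClosedEmbedding.isEmbedding.isInducing)
    exact (Function.Bijective.of_comp_iff' h2 _).1 hb
  · have h₁ := h0 x hx
    have h₂ := isZero_stalk_push i ((Scheme.Modules.pullback i).obj M) x hx
    exact (ConcreteCategory.isIso_iff_bijective _).1
      (⟨0, h₁.eq_of_src _ _, h₂.eq_of_src _ _⟩ :
        IsIso ((stalk x).map ((Scheme.Modules.pullbackPushforwardAdjunction i).unit.app M)))

theorem smul_push_eq_zero (i : W ⟶ Z) [IsClosedImmersion i] (N : W.Modules) (z : Z) (w : W) (hz : z = i w)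
    (s : Z.presheaf.stalk z) (hs : (i.stalkMap w).hom ((Z.presheaf.stalkCongr (.of_eq hz)).hom s) = 0)
    (m : (stalk z).obj ((Scheme.Modules.pushforward i).obj N)) : s • m = 0 := by
  subst hz
  have hs' : (i.stalkMap w).hom s = 0 := by
    rwa [show (Z.presheaf.stalkCongr (Inseparable.of_eq (rfl : i w = i w))).hom = 𝟙 _ from
      TopCat.Presheaf.stalkSpecializes_refl _ _] at hs
  apply (QCoh.pushStalkHom_bijective i w N i.isClosedEmbedding.isEmbedding.isInducing).1
  rw [map_smul, map_zero]
  refine (ModuleCat.restrictScalars.smul_def (i.stalkMap w).hom s _).trans ?_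
  rw [hs']
  exact zero_smul (W.presheaf.stalk w) _

/-- The ideal of a base change of a closed immersion, at a point. -/
theorem ker_stalkMap_eq_map (sq : IsPullback i' r q i) [IsClosedImmersion i] (x : W') (hx : q (i' x) = i (r x)) :
    RingHom.ker (i'.stalkMap x).hom = (RingHom.ker
      ((Z.presheaf.stalkCongr (.of_eq hx)).hom ≫ i.stalkMap (r x)).hom).map (q.stalkMap (i' x)).hom := by
  let c := Z.presheaf.stalkCongr (.of_eq hx)
  let c' := Z.presheaf.stalkCongr (Inseparable.of_eq hx.symm)
  have hcc : c'.hom ≫ c.hom = 𝟙 _ := by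
    simp only [c, c', TopCat.Presheaf.stalkCongr_hom, TopCat.Presheaf.stalkSpecializes_comp,
      TopCat.Presheaf.stalkSpecializes_refl]
  let ψ : Z.presheaf.stalk (q (i' x)) ⟶ W.presheaf.stalk (r x) := c.hom ≫ i.stalkMap (r x)
  obtain ⟨U, hU, hzU, -⟩ := exists_isAffineOpen_mem_and_subset (U := (⊤ : Z.Opens)) (x := i (r x)) trivial
  rw [RelReg.ker_stalkMap_of_isPullback sq.flip ⟨U, hU⟩ inferInstance (r x) hzU x hx]
  have h1 : RingHom.ker ψ.hom = (RingHom.ker (i.stalkMap (r x)).hom).map c'.hom.hom := by
    refine le_antisymm (fun t ht => ?_) (Ideal.map_le_iff_le_comap.2 fun s hs => ?_)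
    · have h2 : t = c'.hom (c.hom t) := by
        refine (ConcreteCategory.bijective_of_isIso c.hom).1 ?_
        exact (ConcreteCategory.congr_hom hcc (c.hom t)).symm
      rw [h2]
      exact Ideal.mem_map_of_mem _ ht
    · show (i.stalkMap (r x)).hom (c.hom (c'.hom s)) = 0
      have h3 : c.hom (c'.hom s) = s := ConcreteCategory.congr_hom hcc s
      rw [h3]; exact hs
  show _ = (RingHom.ker ψ.hom).map _
  rw [h1, Ideal.map_map]
  rfl

theorem isZero_extendScalars_of_smul {A B : Type u} [CommRing A] [CommRing B] (φ : A →+* B) (M : ModuleCat.{u} A)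
    (I : Ideal A) (h : ∀ a ∈ I, ∀ m : M, a • m = 0) (b : B) (hb : b ∈ I.map φ)
    (t : (ModuleCat.extendScalars φ).obj M) : b • t = 0 := by
  letI := φ.toAlgebra
  refine Submodule.span_induction (fun x hx => ?_) (zero_smul _ _) (fun x y _ _ hx hy => ?_)
    (fun c x _ hx => ?_) hb
  · obtain ⟨a, ha, rfl⟩ := hx
    induction t using TensorProduct.induction_on with
    | zero => exact smul_zero _
    | tmul s m =>
      show ((φ a • (show B from s) : B)) ⊗ₜ[A] m = 0
      rw [show (φ a • (show B from s) : B) = a • (show B from s) from rfl, TensorProduct.smul_tmul, h a ha,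
        TensorProduct.tmul_zero]
    | add p q hp hq => rw [smul_add, hp, hq, add_zero]
  · rw [add_smul, hx, hy, add_zero]
  · rw [smul_eq_mul, mul_smul, hx, smul_zero]

theorem isIso_unit_pullback_push (sq : IsPullback i' r q i) [IsClosedImmersion i] [IsClosedImmersion i']
    (N : W.Modules) :
    IsIso ((Scheme.Modules.pullbackPushforwardAdjunction i').unit.app
      ((Scheme.Modules.pullback q).obj ((Scheme.Modules.pushforward i).obj N))) := by
  refine isIso_unit_of_killed i' _ (fun z hz => ?_) (fun y s hs m => ?_)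
  · have hqz : q z ∉ Set.range i := by
      rintro ⟨w, hw⟩
      obtain ⟨p, hp₁, -⟩ := Scheme.Pullback.exists_preimage_pullback (f := q) (g := i) z w hw.symm
      refine hz ⟨sq.isoPullback.inv p, ?_⟩
      rw [← Scheme.Hom.comp_apply, IsPullback.isoPullback_inv_fst, hp₁]
    exact ((ModuleCat.extendScalars (q.stalkMap z).hom).map_isZero (isZero_stalk_push i N _ hqz)).of_iso
      ((pullStalkIso q z).app _)
  · have hx : q (i' y) = i (r y) := by rw [← Scheme.Hom.comp_apply, sq.w, Scheme.Hom.comp_apply]
    have hs' : s ∈ RingHom.ker (i'.stalkMap y).hom := hs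
    rw [ker_stalkMap_eq_map sq y hx] at hs'
    let e := ((pullStalkIso q (i' y)).app ((Scheme.Modules.pushforward i).obj N)).toLinearEquiv
    apply e.injective
    rw [map_smul, map_zero]
    exact isZero_extendScalars_of_smul _ _ _
      (fun a ha n => smul_push_eq_zero i N _ (r y) hx a ha n) s hs' _

/-- Direct image along a closed immersion commutes with base change, for all modules. -/
theorem nonempty_pushBC (sq : IsPullback i' r q i) [IsClosedImmersion i] [IsClosedImmersion i'] :
    Nonempty (Scheme.Modules.pushforward i ⋙ Scheme.Modules.pullback q ≅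
      Scheme.Modules.pullback r ⋙ Scheme.Modules.pushforward i') := by
  obtain ⟨_, _⟩ := ClosedHom20.full_faithful_pushforward i
  let a := Scheme.Modules.pullbackPushforwardAdjunction i
  haveI : IsIso a.counit := a.counit_isIso_of_R_fully_faithful
  let a' := Scheme.Modules.pullbackPushforwardAdjunction i'
  let S := Scheme.Modules.pushforward i ⋙ Scheme.Modules.pullback q
  haveI : ∀ N, IsIso ((Functor.whiskerLeft S a'.unit).app N) := fun N => isIso_unit_pullback_push sq N
  haveI : IsIso (Functor.whiskerLeft S a'.unit) := NatIso.isIso_of_isIso_app _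
  let k : Scheme.Modules.pullback q ⋙ Scheme.Modules.pullback i' ≅
      Scheme.Modules.pullback i ⋙ Scheme.Modules.pullback r :=
    Scheme.Modules.pullbackComp i' q ≪≫ Scheme.Modules.pullbackCongr sq.w ≪≫
      (Scheme.Modules.pullbackComp r i).symm
  exact ⟨S.rightUnitor.symm ≪≫ asIso (Functor.whiskerLeft S a'.unit) ≪≫
    Functor.isoWhiskerLeft (Scheme.Modules.pushforward i) (Functor.isoWhiskerRight k (Scheme.Modules.pushforward i')) ≪≫
    Functor.isoWhiskerRight (Functor.isoWhiskerRight (asIso a.counit) (Scheme.Modules.pullback r))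
      (Scheme.Modules.pushforward i')⟩

end GrothLib.ClosedFlatBC29
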