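import Groth.Agent.Lib.ClosedFlatBC29.Basic
import Groth.Agent.Lib.RelPCUnb.Model
import Groth.Agent.Lib.DualRing.SchemePull
import Groth.Agent.Lib.RightAdj20.BaseChangeTools
import Groth.Agent.Lib.OX.PerfectLemmas

/-! # Flat base change of relative pseudo-coherence for arbitrary objects -/

set_option autoImplicit false
set_option maxHeartbeats 1600000
set_option backward.isDefEq.respectTransparency false
set_option linter.style.haveILetI false
universe u

open CategoryTheory CategoryTheory.Limits AlgebraicGeometry TopologicalSpace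

attribute [local instance] HasDerivedCategory.standard

namespace GrothLib.ClosedFlatBC29

open GrothLib.OX GrothLib.KSix19

theorem nonempty_pushD_bc {W W' Z Z' : Scheme.{u}} {i : W ⟶ Z} {i' : W' ⟶ Z'} {q : Z' ⟶ Z} {r : W' ⟶ W}
    (sq : IsPullback i' r q i) [IsClosedImmersion i] [IsClosedImmersion i'] [Flat q] [Flat r]
    [DCoh.HasLpull q] [DCoh.HasLpull r] (K : DCoh.D W) :
    Nonempty ((DCoh.Lpull q).obj ((pushD i).obj K) ≅ (pushD i').obj ((DCoh.Lpull r).obj K)) := by
  haveI := preservesFiniteLimits_pullback_of_flat q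
  haveI := preservesFiniteLimits_pullback_of_flat r
  haveI := additive_pullback q
  haveI := additive_pullback r
  obtain ⟨lq⟩ := GrothLib.DualRing.nonempty_lpull_flat q
  obtain ⟨lr⟩ := GrothLib.DualRing.nonempty_lpull_flat r
  obtain ⟨β⟩ := nonempty_pushBC sq
  let H := Scheme.Modules.pullback r ⋙ Scheme.Modules.pushforward i'
  haveI : PreservesFiniteLimits H := comp_preservesFiniteLimits _ _
  haveI : PreservesFiniteColimits H := comp_preservesFiniteColimits _ _
  let e1 := DerCat.mapDerivedCompIso (Scheme.Modules.pushforward i) (Scheme.Modules.pullback q) H β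
  let e2 := DerCat.mapDerivedCompIso (Scheme.Modules.pullback r) (Scheme.Modules.pushforward i') H (Iso.refl _)
  exact ⟨lq.app _ ≪≫ (e1 ≪≫ e2.symm).app K ≪≫ (pushD i').mapIso (lr.app K).symm⟩

variable {X Y X' Y' : Scheme.{u}} {f : X ⟶ Y} {h : Y' ⟶ Y} {g : X' ⟶ X} {f' : X' ⟶ Y'}

/-- **Flat base change of relative pseudo-coherence**, for arbitrary objects. -/
theorem isPseudoCoherentRel_lpull_flat (H : IsPullback g f' f h) [Flat h] [LocallyOfFiniteType f]
    [DCoh.HasLpull g] {K : DCoh.D X} {m : ℤ}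
    (hK : DerSch.IsPseudoCoherentRel f m K) : DerSch.IsPseudoCoherentRel f' m ((DCoh.Lpull g).obj K) := by
  haveI : LocallyOfFiniteType f' := MorphismProperty.of_isPullback H ‹LocallyOfFiniteType f›
  refine isPseudoCoherentRel_of_local fun x => ?_
  obtain ⟨U, V, hU, hV, hxU, -, hle⟩ := exists_affine_pair f (O := ⊤) (x := g x) trivial
  obtain ⟨n, φ, hφ⟩ := exists_isChart f hU hV hle
  have hx : h (f' x) ∈ V := by
    rw [← Scheme.Hom.comp_apply, ← H.w, Scheme.Hom.comp_apply]
    exact hle hxU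
  obtain ⟨V', hV', hxV', hle'⟩ := exists_isAffineOpen_mem_and_subset (x := f' x) (U := h ⁻¹ᵁ V) hx
  haveI : IsAffine U.toScheme := hU
  haveI : IsAffine V.toScheme := hV
  haveI : IsAffine V'.toScheme := hV'
  let U' : X'.Opens := g ⁻¹ᵁ U ⊓ f' ⁻¹ᵁ V'
  have hU' : IsAffineOpen U' :=
    .of_isIso (Scheme.Hom.isPullback_resLE H hle' hle rfl).isoPullback.hom
  have hpo := (isIso_pushoutSection_iff H hle' hle rfl).1
    (isIso_pushoutSection_of_isAffineOpen H hle' hle rfl hV hV' hU)
  obtain ⟨φ', hs, hC', hsq, h1, -⟩ := exists_chart_square (a := (h.appLE V V' hle').hom)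
    (b := (f.appLE V U hle).hom) (g := (g.appLE U U' inf_le_left).hom) (b' := (f'.appLE V' U' inf_le_right).hom)
    hpo φ hφ.1 hφ.2
  let a : MvPolynomial (Fin n) Γ(Y, V) →+* MvPolynomial (Fin n) Γ(Y', V') :=
    MvPolynomial.map (h.appLE V V' hle').hom
  let i := immOf U φ
  let i' := immOf U' φ'
  let q := Spec.map (CommRingCat.ofHom a)
  let r := g.resLE U U' inf_le_left
  haveI : IsClosedImmersion i := isClosedImmersion_immOf hU hφ.1
  haveI : IsClosedImmersion i' := isClosedImmersion_immOf hU' hs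
  haveI : Flat q := (HasRingHomProperty.Spec_iff (P := @Flat)).2 (h1 (Flat.flat_appLE h hV hV' hle'))
  have sq : IsPullback i' r q i := by
    refine (isPullback_SpecMap_of_isPushout _ _ _ _ hsq.flip).of_iso hU'.isoSpec.symm (Iso.refl _) hU.isoSpec.symm
      (Iso.refl _) ?_ ?_ ?_ ?_
    · rw [Iso.symm_hom, Iso.refl_hom, Category.comp_id]
      exact (Iso.inv_hom_id_assoc hU'.isoSpec _).symm
    · rw [Iso.symm_hom, Iso.symm_hom, Iso.eq_inv_comp, ← Category.assoc, Iso.comp_inv_eq,
        IsAffineOpen.isoSpec_hom, IsAffineOpen.isoSpec_hom]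
      exact Scheme.Opens.toSpecΓ_SpecMap_appLE g U U' inf_le_left
    · simp [q, a]
    · rw [Iso.symm_hom, Iso.refl_hom, Category.comp_id]
      exact (Iso.inv_hom_id_assoc hU.isoSpec _).symm
  haveI : Flat r := MorphismProperty.of_isPullback (P := @Flat) sq ‹Flat q›
  haveI := hasLpull q
  haveI := hasLpull r
  obtain ⟨s⟩ := GrothLib.RightAdj20.nonempty_resD_lpull_square g U'.ι U.ι r (g.resLE_comp_ι _)
  obtain ⟨e⟩ := nonempty_pushD_bc sq ((resD U.ι).obj K)
  refine ⟨U', V', inf_le_right, n, φ', ⟨hxU, hxV'⟩, hU', hV', ⟨hs, hC'⟩, (pcOn_iff_pushD hU' hs).2 ?_⟩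
  exact isPseudoCoherentD_of_iso
    (isPseudoCoherent_lpull q ((pcOn_iff_pushD hU hφ.1).1 (pcOn_of_isPseudoCoherentRel hK hU hV hφ)))
    (e ≪≫ (pushD i').mapIso (s.app K).symm)

end GrothLib.ClosedFlatBC29
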